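import Cfsg.Agent.H65.Disp.Rgd
import Cfsg.Agent.Nodes.RGDChev

/-!
# Automorphisms of order three of the Chevalley groups normalise a `p`-subgroup (helper65)

`exists_inv_chev` : `x ^ 3 = 1`, `x` an automorphism of `D.group F`, `F` finite of characteristic `p`, `D` one of
`G₂`, `B₂`, `D₄`, `F₄`, `E₆`, `E₇`, `E₈`: there is a nontrivial `p`-subgroup invariant under `x`.
-/

set_option autoImplicit false
set_option linter.unusedSectionVars false

namespace Cfsg.Agent.H65.Disp.Chev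

open CoxeterSystem Cfsg.Agent.ChevalleyStructure.CoxeterGeom Cfsg.Agent.Tits.Roots Cfsg.Agent.Tits.Core
  Cfsg.Agent.Nodes.Reps Cfsg.Agent.Nodes.BNOf Cfsg.Agent.Nodes.Bruhat Cfsg.Agent.Nodes.RGDChev
  Cfsg.Agent.KFacts.RgdAut Cfsg.Agent.KFacts.RgdDiag Cfsg.Agent.H65.Disp.Rgd
open Cfsg.Lie Cfsg.Agent.ChevalleyStructure.CoxeterGeomTypes

/-- the entries of the Coxeter matrix -/
def ent {l : ℕ} (M : CoxeterMatrix (Fin l)) (i j : Fin l) : ℕ := M i j

/-- the data of a type without diagram symmetries of order three -/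
structure Ty {l : ℕ} (M : CoxeterMatrix (Fin l)) (A : Fin l → Fin l → ℤ) (ω : List (Fin l)) : Prop where
  nodup : ω.Nodup
  all : ∀ i, i ∈ ω
  chk : Chk A ω
  chk2 : Chk A (ω ++ ω)
  ne : ∃ i, act A (ω ++ ω ++ ω) (sr i) ≠ sr i
  sym : ∀ σ : Equiv.Perm (Fin l), (∀ i j, ent M (σ i) (σ j) = ent M i j) → σ ^ 3 = 1 → σ = 1

section

variable {l : ℕ} {W Y : Type*} [Group W] [Group Y] {M : CoxeterMatrix (Fin l)}
  {cs : CoxeterSystem M W} {A : Fin l → Fin l → ℤ} {h : IsCartan M A} {p : ℕ} {T : Subgroup Y} {n : Fin l → Y}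
  {X : (Fin l → ℤ) → Subgroup Y} (R : RGD cs h p T n X)

include R

/-- **Automorphisms of order three, no diagram symmetries of order three.** -/
theorem exists_inv_of_ty [Finite W] [Finite Y] [Fact p.Prime] (hG : GG cs h T X = ⊤) {ω : List (Fin l)}
    (hT : Ty M A ω) (x : MulAut Y) (hx : x ^ 3 = 1) :
    ∃ V : Subgroup Y, V ≠ ⊥ ∧ IsPGroup p V ∧ ∀ v ∈ V, x v ∈ V := by
  obtain ⟨i, hi⟩ := hT.ne
  have : Nonempty (Fin l) := ⟨i⟩
  obtain ⟨a, β, σ, rfl, hU, D⟩ := exists_frame R hG x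
  have h1 := hT.sym σ (D.matrix R) (perm_cube R hG hU D hx)
  subst h1
  exact exists_inv_of_type R hG hT.nodup hT.all (length_sq h hT.chk2 hT.chk) (cube_ne h hi) hU D hx

end

theorem ty_G2 : Ty CoxeterMatrix.G₂ (cartanOf chevG2 2) [0, 1] where
  nodup := by decide
  all := by decide
  chk := by decide +kernel
  chk2 := by decide +kernel
  ne := ⟨0, by decide +kernel⟩
  sym := by decide +kernel

theorem ty_B2 : Ty (CoxeterMatrix.B 2) (cartanOf chevB2 2) [0, 1] where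
  nodup := by decide
  all := by decide
  chk := by decide +kernel
  chk2 := by decide +kernel
  ne := ⟨0, by decide +kernel⟩
  sym := by decide +kernel

theorem ty_F4 : Ty CoxeterMatrix.F₄ (cartanOf chevF4 4) [0, 2, 1, 3] where
  nodup := by decide
  all := by decide
  chk := by decide +kernel
  chk2 := by decide +kernel
  ne := ⟨0, by decide +kernel⟩
  sym := by decide +kernel

/-! ### the types `E` -/

set_option synthInstance.maxHeartbeats 1000000 in
set_option synthInstance.maxSize 4096 in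
theorem symE6 : ∀ a b : Fin 6, ent CoxeterMatrix.E₆ a b = 3 → ∀ c, ent CoxeterMatrix.E₆ a c = 3 → c ≠ b →
    ∀ d, ent CoxeterMatrix.E₆ a d = 3 → d ≠ b → d ≠ c → ∀ e, ent CoxeterMatrix.E₆ c e = 3 → e ≠ a →
    ∀ f, ent CoxeterMatrix.E₆ d f = 3 → f ≠ a →
    (a = 3 ∧ b = 1) ∧ ((c = 2 ∧ d = 4 ∧ e = 0 ∧ f = 5) ∨ (c = 4 ∧ d = 2 ∧ e = 5 ∧ f = 0)) := by
  decide +kernel

set_option synthInstance.maxHeartbeats 1000000 in
set_option synthInstance.maxSize 4096 in
theorem symE7 : ∀ a b : Fin 7, ent CoxeterMatrix.E₇ a b = 3 → ∀ c, ent CoxeterMatrix.E₇ a c = 3 → c ≠ b →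
    ∀ d, ent CoxeterMatrix.E₇ a d = 3 → d ≠ b → d ≠ c → ∀ e, ent CoxeterMatrix.E₇ c e = 3 → e ≠ a →
    ∀ f, ent CoxeterMatrix.E₇ d f = 3 → f ≠ a → ∀ g, ent CoxeterMatrix.E₇ f g = 3 → g ≠ d →
    (a = 3 ∧ b = 1) ∧ c = 2 ∧ d = 4 ∧ e = 0 ∧ f = 5 ∧ g = 6 := by
  decide +kernel

set_option synthInstance.maxHeartbeats 1000000 in
set_option synthInstance.maxSize 4096 in
theorem symE8 : ∀ a b : Fin 8, ent CoxeterMatrix.E₈ a b = 3 → ∀ c, ent CoxeterMatrix.E₈ a c = 3 → c ≠ b →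
    ∀ d, ent CoxeterMatrix.E₈ a d = 3 → d ≠ b → d ≠ c → ∀ e, ent CoxeterMatrix.E₈ c e = 3 → e ≠ a →
    ∀ f, ent CoxeterMatrix.E₈ d f = 3 → f ≠ a → ∀ g, ent CoxeterMatrix.E₈ f g = 3 → g ≠ d →
    ∀ k, ent CoxeterMatrix.E₈ g k = 3 → k ≠ f →
    (a = 3 ∧ b = 1) ∧ c = 2 ∧ d = 4 ∧ e = 0 ∧ f = 5 ∧ g = 6 ∧ k = 7 := by
  decide +kernel

theorem ty_E6 : Ty CoxeterMatrix.E₆ (cartanOf chevE6 6) [0, 3, 5, 1, 2, 4] where
  nodup := by decide
  all := by decide
  chk := by decide +kernel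
  chk2 := by decide +kernel
  ne := ⟨0, by decide +kernel⟩
  sym := by
    intro σ hσ h3
    have hne : ∀ {i j : Fin 6}, i ≠ j → σ i ≠ σ j := fun h => σ.injective.ne h
    obtain ⟨⟨ha, hb⟩, h | h⟩ := symE6 (σ 3) (σ 1) ((hσ _ _).trans (by decide +kernel)) (σ 2)
      ((hσ _ _).trans (by decide +kernel)) (hne (by decide)) (σ 4) ((hσ _ _).trans (by decide +kernel))
      (hne (by decide)) (hne (by decide)) (σ 0) ((hσ _ _).trans (by decide +kernel)) (hne (by decide)) (σ 5)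
      ((hσ _ _).trans (by decide +kernel)) (hne (by decide))
    · obtain ⟨hc, hd, he, hf⟩ := h
      ext i
      fin_cases i <;> simp_all
    · exfalso
      obtain ⟨hc, hd, he, hf⟩ := h
      have h4 := DFunLike.congr_fun h3 2
      rw [pow_succ, pow_succ, pow_one, Equiv.Perm.mul_apply, Equiv.Perm.mul_apply, hc, hd, hc] at h4
      exact absurd h4 (by decide)

theorem ty_E7 : Ty CoxeterMatrix.E₇ (cartanOf chevE7 7) [0, 3, 5, 1, 2, 4, 6] where
  nodup := by decide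
  all := by decide
  chk := by decide +kernel
  chk2 := by decide +kernel
  ne := ⟨0, by decide +kernel⟩
  sym := by
    intro σ hσ h3
    have hne : ∀ {i j : Fin 7}, i ≠ j → σ i ≠ σ j := fun h => σ.injective.ne h
    obtain ⟨⟨ha, hb⟩, hc, hd, he, hf, hg⟩ := symE7 (σ 3) (σ 1) ((hσ _ _).trans (by decide +kernel)) (σ 2)
      ((hσ _ _).trans (by decide +kernel)) (hne (by decide)) (σ 4) ((hσ _ _).trans (by decide +kernel))
      (hne (by decide)) (hne (by decide)) (σ 0) ((hσ _ _).trans (by decide +kernel)) (hne (by decide)) (σ 5)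
      ((hσ _ _).trans (by decide +kernel)) (hne (by decide)) (σ 6) ((hσ _ _).trans (by decide +kernel))
      (hne (by decide))
    ext i
    fin_cases i <;> simp_all

theorem ty_E8 : Ty CoxeterMatrix.E₈ (cartanOf chevE8 8) [0, 3, 5, 7, 1, 2, 4, 6] where
  nodup := by decide
  all := by decide
  chk := by decide +kernel
  chk2 := by decide +kernel
  ne := ⟨0, by decide +kernel⟩
  sym := by
    intro σ hσ h3
    have hne : ∀ {i j : Fin 8}, i ≠ j → σ i ≠ σ j := fun h => σ.injective.ne h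
    obtain ⟨⟨ha, hb⟩, hc, hd, he, hf, hg, hk⟩ := symE8 (σ 3) (σ 1) ((hσ _ _).trans (by decide +kernel)) (σ 2)
      ((hσ _ _).trans (by decide +kernel)) (hne (by decide)) (σ 4) ((hσ _ _).trans (by decide +kernel))
      (hne (by decide)) (hne (by decide)) (σ 0) ((hσ _ _).trans (by decide +kernel)) (hne (by decide)) (σ 5)
      ((hσ _ _).trans (by decide +kernel)) (hne (by decide)) (σ 6) ((hσ _ _).trans (by decide +kernel))
      (hne (by decide)) (σ 7) ((hσ _ _).trans (by decide +kernel)) (hne (by decide))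
    ext i
    fin_cases i <;> simp_all

/-! ### the type `D₄` -/

theorem symD4 : ∀ σ : Equiv.Perm (Fin 4), (∀ i j, ent coxeterD4 (σ i) (σ j) = ent coxeterD4 i j) → σ ^ 3 = 1 →
    σ = 1 ∨ (σ 1 = 1 ∧ 0 ≠ σ 0 ∧ 0 ≠ σ (σ 0) ∧ (∀ i, i = 0 ∨ i = σ 0 ∨ i = σ (σ 0) ∨ i = 1) ∧
      ∀ i j, cartanOf chevD4 4 (σ i) (σ j) = cartanOf chevD4 4 i j) := by
  decide +kernel

theorem chkD4 : Chk (cartanOf chevD4 4) [0, 2, 3, 1] := by decide +kernel

theorem chkD4' : Chk (cartanOf chevD4 4) ([0, 2, 3, 1] ++ [0, 2, 3, 1]) := by decide +kernel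

theorem cubeD4 : act (cartanOf chevD4 4) ([0, 2, 3, 1] ++ [0, 2, 3, 1] ++ [0, 2, 3, 1]) (sr 0) ≠ sr 0 := by
  decide +kernel

/-! ### the groups -/

section Groups

universe u

variable {D : ChevalleyDatum} {l : ℕ} {M : CoxeterMatrix (Fin l)} (hp : IsType D l M) (F : Type u) [Field F] [Finite F]
  (p : ℕ) [Fact p.Prime] [CharP F p]

include p in
theorem GG_top : GG M.toCoxeterSystem hp.isCartan ((D.diagonalSubgroup F).subgroupOf (D.group F))
    (fun x => (XV D l F x).subgroupOf (D.group F)) = ⊤ := by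
  have := finite_W hp M.toCoxeterSystem
  rw [← top_le_iff, ← gen (K := F) hp M.toCoxeterSystem p]
  exact sup_le B_le_GG (NN_le_GG (rgd (K := F) hp M.toCoxeterSystem p))

theorem exists_inv_D4 (x : MulAut ↥(chevD4.group F)) (hx : x ^ 3 = 1) :
    ∃ V : Subgroup ↥(chevD4.group F), V ≠ ⊥ ∧ IsPGroup p V ∧ ∀ v ∈ V, x v ∈ V := by
  have hp : IsType chevD4 4 coxeterD4 := by simp [IsType, typeList]
  have hW := finite_W hp coxeterD4.toCoxeterSystem
  have hfin : Finite ↥(chevD4.group F) := inferInstance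
  have R := rgd (K := F) hp coxeterD4.toCoxeterSystem p
  have hG := GG_top hp F p
  obtain ⟨a, β, σ, rfl, hU, D⟩ := exists_frame R hG x
  rcases symD4 σ (D.matrix R) (perm_cube R hG hU D hx) with h1 | ⟨h1, h2, h3, h4, h5⟩
  · subst h1
    exact exists_inv_of_type R hG (ω := [0, 2, 3, 1]) (by decide) (by decide)
      (length_sq hp.isCartan chkD4' chkD4) (cube_ne hp.isCartan cubeD4) hU D hx
  · exact exists_inv_of_tri R hG (i₁ := 0) (c := 1) h1 h2 h3 (by decide) h4 h5 hU D hx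

include hp in
/-- **Automorphisms of order three of the Chevalley groups.** -/
theorem exists_inv_chev (x : MulAut ↥(D.group F)) (hx : x ^ 3 = 1) :
    ∃ V : Subgroup ↥(D.group F), V ≠ ⊥ ∧ IsPGroup p V ∧ ∀ v ∈ V, x v ∈ V := by
  have key : ∀ ω : List (Fin l), Ty M (cartanOf D l) ω →
      ∃ V : Subgroup ↥(D.group F), V ≠ ⊥ ∧ IsPGroup p V ∧ ∀ v ∈ V, x v ∈ V := by
    intro ω hω
    have hW := finite_W hp M.toCoxeterSystem
    have hfin : Finite ↥(D.group F) := inferInstance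
    exact exists_inv_of_ty (rgd (K := F) hp M.toCoxeterSystem p) (GG_top hp F p) hω x hx
  have hp' := hp
  simp only [IsType, typeList, List.mem_cons, List.not_mem_nil, or_false, Prod.mk.injEq] at hp'
  rcases hp' with ⟨rfl, h⟩ | ⟨rfl, h⟩ | ⟨rfl, h⟩ | ⟨rfl, h⟩ | ⟨rfl, h⟩ | ⟨rfl, h⟩ | ⟨rfl, h⟩ <;> cases h
  · exact key _ ty_G2
  · exact key _ ty_B2
  · exact exists_inv_D4 F p x hx
  · exact key _ ty_F4
  · exact key _ ty_E6
  · exact key _ ty_E7
  · exact key _ ty_E8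

end Groups

end Cfsg.Agent.H65.Disp.Chev
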